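import Cfsg.Agent.H8.Comp

/-! Alternating groups on subsets. -/

set_option autoImplicit false

namespace Cfsg.Agent.H4

open Subgroup Equiv Equiv.Perm alternatingGroup H8
open scoped Pointwise

variable {α : Type*} [Fintype α] [DecidableEq α]

theorem centralizer_alt {s : Finset α} (hs : 4 ≤ s.card) :
    centralizer ((alternatingGroup.ofSubtype s).range : Set (alternatingGroup α)) = (alternatingGroup.ofSubtype sᶜ).range := by
  refine le_antisymm (fun c hc => (mem_range_ofSubtype_iff _ _).2 fun x hx => Finset.mem_compl.2 fun h => ?_)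
    fun c hc k hk => Subtype.ext (Perm.Disjoint.commute (disjoint_iff_disjoint_support.2 (disjoint_compl_right.mono
      ((mem_range_ofSubtype_iff _ _).1 hk) ((mem_range_ofSubtype_iff _ _).1 hc))))
  obtain ⟨y, h1, h2⟩ := Finset.exists_mem_notMem_of_card_lt_card (s := {x, c.1 x}) (t := s)
    (Finset.card_le_two.trans_lt (by omega))
  obtain ⟨z, h3, h4⟩ := Finset.exists_mem_notMem_of_card_lt_card (s := {x, c.1 x, y}) (t := s)
    (Finset.card_le_three.trans_lt (by omega))
  simp only [Finset.mem_insert, Finset.mem_singleton, not_or, mem_support] at h2 h4 hx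
  have h5 := congrArg (fun k : alternatingGroup α => k.1 x) (hc ⟨_, (isThreeCycle_swap_mul_swap_same (Ne.symm h2.1) (Ne.symm h4.1)
    (Ne.symm h4.2.2)).mem_alternatingGroup⟩ ((mem_range_ofSubtype_iff _ _).2 fun w hw => by
      by_contra h6
      simp only [mem_support, Perm.mul_apply, swap_apply_def] at hw
      grind))
  simp only [Subgroup.coe_mul, Perm.mul_apply, swap_apply_left, swap_apply_of_ne_of_ne hx (Ne.symm h4.2.1),
    swap_apply_of_ne_of_ne hx (Ne.symm h2.2), swap_apply_of_ne_of_ne h4.1 h4.2.2] at h5
  exact h4.1 (c.1.injective h5).symm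

theorem four_le_card_support {u : alternatingGroup α} (h : orderOf u = 2) : 4 ≤ u.1.support.card := by
  by_contra h1
  have h2 : orderOf u.1 = 2 := by simpa using h
  have h3 := card_support_le_one (f := u.1)
  have h4 := card_support_eq_two (f := u.1)
  have h5 := card_support_eq_three_iff (σ := u.1)
  obtain h6 | h6 | h6 : u.1.support.card ≤ 1 ∨ u.1.support.card = 2 ∨ u.1.support.card = 3 := by omega
  · simp [h3.1 h6] at h2
  · simpa [mem_alternatingGroup.1 u.2] using (h4.1 h6).sign_eq
  · simp [(h5.1 h6).orderOf] at h2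

theorem card_alt_range {s : Finset α} (hs : 2 ≤ s.card) :
    Nat.card (alternatingGroup.ofSubtype s).range = s.card.factorial / 2 := by
  have : Nontrivial s := Fintype.one_lt_card_iff_nontrivial.1 (by simp; omega)
  rw [← Nat.card_congr (MonoidHom.ofInjective alternatingGroup.ofSubtype_injective).toEquiv, nat_card_alternatingGroup]
  simp

theorem standard_alt {s : Finset α} (hs : s.card = 4) (h5 : 5 ≤ sᶜ.card) :
    IsStandardSubgroup (alternatingGroup.ofSubtype sᶜ).range := by
  have h1 := centralizer_alt (s := sᶜ) (by omega)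
  have h2 := centralizer_alt hs.ge
  rw [compl_compl] at h1
  have h3 : Nat.card (alternatingGroup.ofSubtype s).range = 12 := by rw [card_alt_range (by omega), hs]; rfl
  have h4 : 5 ≤ Nat.card (sᶜ : Finset α) := by simpa [Finset.card_compl] using h5
  have := alternatingGroup.isSimpleGroup h4
  refine ⟨qs_of_equiv (MonoidHom.ofInjective alternatingGroup.ofSubtype_injective) (qs_of_simple fun h => ?_),
    h1 ▸ ⟨by rw [h3]; decide, fun g hg => Nat.not_even_iff_odd.1 fun h => hg ?_⟩, fun g _ h => ?_,
    (normalizer_le_normalizer_centralizer _).antisymm (by rw [h1]; exact (normalizer_le_normalizer_centralizer _).trans_eq (by rw [h2]))⟩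
  · simpa [commutator_alternatingGroup_eq_top h4] using (commutator_eq_bot_iff _).2 h
  · obtain ⟨⟨u, h7, h8⟩, hu⟩ := exists_prime_orderOf_dvd_card' 2 (even_iff_two_dvd.1 h)
    have h9 := four_le_card_support ((orderOf_mk ..).symm.trans hu)
    have h6 := conj_smul_range_ofSubtype s g
    replace h8 := (mem_range_ofSubtype_iff _ _).1 (h6.le h8)
    rw [Finset.eq_of_subset_of_card_le ((mem_range_ofSubtype_iff _ _).1 h7) (by omega)] at h8
    rw [← Finset.eq_of_subset_of_card_le h8 (by simp)] at h6
    exact mem_normalizer_fintype fun k hk => h6.le ⟨k, hk, rfl⟩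
  · rw [Subgroup.commutator_comm, commutator_eq_bot_iff_le_centralizer, h1] at h
    have h6 := card_le_of_le h
    rw [h3, card_map_of_injective (MulAut.conj g).injective, card_alt_range (by omega)] at h6
    have := Nat.factorial_le h5
    simp [Nat.factorial] at this
    omega

end Cfsg.Agent.H4
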